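import Mathlib

/-!
Two commuting involutory automorphisms `z`, `b` of an odd order subgroup `K`: if the fixed points
of `b` and of `b * z` are fixed by `z`, then `z` fixes all of `K`.  (Elementary replacement for
generation by centralizers of a four-group.)
-/

set_option autoImplicit false

namespace CfsgLib.LargeExtraspecial

variable {G : Type*} [Group G]

theorem sqrt_unique {N : ℕ} (hN : Odd N) {a c : G} (ha : a ^ N = 1) (hc : c ^ N = 1)
    (h : a * a = c * c) : a = c := by
  obtain ⟨k, rfl⟩ := hN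
  have key : ∀ t : G, t ^ (2 * k + 1) = 1 → t = (t * t) ^ (k + 1) := fun t ht => by
    rw [← pow_two, ← pow_mul, show 2 * (k + 1) = 2 * k + 1 + 1 by omega, pow_succ, ht, one_mul]
  rw [key a ha, key c hc, h]

theorem commute_of_four_group [Finite G] {z b : G} (hz : z * z = 1) (hb : b * b = 1)
    (hzb : z * b = b * z) {K : Subgroup G} (hK : Odd (Nat.card ↥K))
    (hzK : ∀ k ∈ K, z * k * z ∈ K) (hbK : ∀ k ∈ K, b * k * b ∈ K)
    (h1 : ∀ k ∈ K, b * k * b = k → z * k * z = k)
    (h2 : ∀ k ∈ K, b * z * k * (z * b) = k → z * k * z = k) :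
    ∀ k ∈ K, z * k * z = k := by
  classical
  have hz' : z⁻¹ = z := inv_eq_of_mul_eq_one_right hz
  have hb' : b⁻¹ = b := inv_eq_of_mul_eq_one_right hb
  let φ : G →* G := (MulAut.conj z).toMonoidHom
  let ψ : G →* G := (MulAut.conj b).toMonoidHom
  have hφ : ∀ x, φ x = z * x * z := fun x => by simp [φ, hz']
  have hψ : ∀ x, ψ x = b * x * b := fun x => by simp [ψ, hb']
  have hφφ : ∀ x, φ (φ x) = x := fun x => by
    simp [hφ, ← mul_assoc, hz, mul_assoc _ z z]
  have hψψ : ∀ x, ψ (ψ x) = x := fun x => by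
    simp [hψ, ← mul_assoc, hb, mul_assoc _ b b]
  have hcomm : ∀ x, φ (ψ x) = ψ (φ x) := fun x => by
    calc φ (ψ x) = (z * b) * x * (b * z) := by rw [hφ, hψ]; simp only [mul_assoc]
      _ = (b * z) * x * (z * b) := by rw [hzb]
      _ = ψ (φ x) := by rw [hφ, hψ]; simp only [mul_assoc]
  have hord : ∀ x ∈ K, x ^ Nat.card ↥K = 1 := fun x hx => by
    have := congrArg Subtype.val (pow_card_eq_one' (x := (⟨x, hx⟩ : ↥K)))
    rwa [SubmonoidClass.coe_pow] at this
  obtain ⟨n, hn⟩ := hK
  have half : ∀ x ∈ K, x ^ (n + 1) * x ^ (n + 1) = x := fun x hx => by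
    rw [← pow_add, show n + 1 + (n + 1) = Nat.card ↥K + 1 by omega, pow_succ, hord x hx, one_mul]
  -- inverted elements are trivial
  have inv_triv : ∀ x ∈ K, φ x = x⁻¹ → x = 1 := by
    intro x hx hxi
    have hy : ψ x ∈ K := by rw [hψ]; exact hbK x hx
    have hyi : φ (ψ x) = (ψ x)⁻¹ := by rw [hcomm, hxi, map_inv]
    set r := x ^ (n + 1) with hr
    have hrK : r ∈ K := K.pow_mem hx _
    have hrr : r * r = x := half x hx
    have hri : φ r = r⁻¹ := by rw [hr, map_pow, hxi, inv_pow]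
    set y' := r⁻¹ * ψ x * r⁻¹ with hy'
    have hy'K : y' ∈ K := K.mul_mem (K.mul_mem (K.inv_mem hrK) hy) (K.inv_mem hrK)
    have hy'i : φ y' = y'⁻¹ := by
      rw [hy', map_mul, map_mul, map_inv, hri, hyi]; group
    set s := y' ^ (n + 1) with hs
    have hsK : s ∈ K := K.pow_mem hy'K _
    have hss : s * s = y' := half y' hy'K
    have hsi : φ s = s⁻¹ := by rw [hs, map_pow, hy'i, inv_pow]
    set m := r * s * r with hm
    have hmK : m ∈ K := K.mul_mem (K.mul_mem hrK hsK) hrK
    have hmi : φ m = m⁻¹ := by rw [hm, map_mul, map_mul, hri, hsi]; group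
    have hmy : m * x⁻¹ * m = ψ x := by
      calc m * x⁻¹ * m = r * (s * s) * r := by rw [hm, ← hrr]; group
        _ = ψ x := by rw [hss, hy']; group
    have hbm : ψ m ∈ K := by rw [hψ]; exact hbK m hmK
    have hmy' : ψ m * x⁻¹ * ψ m = ψ x := by
      have h3 := congrArg ψ hmy
      rw [map_mul, map_mul, map_inv, hψψ] at h3
      have h4 := congrArg (fun t => ψ m * t⁻¹ * ψ m) h3
      simp only [mul_inv_rev, inv_inv, ← mul_assoc, mul_inv_cancel, one_mul] at h4
      rw [mul_assoc (ψ x), inv_mul_cancel, mul_one] at h4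
      exact h4.symm
    have hfix : ψ m = m := by
      have e : r⁻¹ * ψ m * r⁻¹ = s := by
        refine sqrt_unique (show Odd (Nat.card ↥K) from ⟨n, hn⟩) (hord _ ?_) (hord _ hsK) ?_
        · exact K.mul_mem (K.mul_mem (K.inv_mem hrK) hbm) (K.inv_mem hrK)
        · rw [hss, hy', ← hmy', ← hrr]; group
      calc ψ m = r * (r⁻¹ * ψ m * r⁻¹) * r := by group
        _ = m := by rw [e]
    have hm1 : m = 1 := by
      have := h1 m hmK (by rw [← hψ]; exact hfix)
      rw [← hφ, hmi] at this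
      refine sqrt_unique (show Odd (Nat.card ↥K) from ⟨n, hn⟩) (hord m hmK) (one_pow _) ?_
      rw [one_mul]
      nth_rw 1 [← this]
      exact inv_mul_cancel m
    rw [hm1, one_mul, mul_one] at hmy
    have hbz : b * z * x * (z * b) = x := by
      calc b * z * x * (z * b) = ψ (φ x) := by rw [hψ, hφ]; simp only [mul_assoc]
        _ = x := by rw [hxi, map_inv, ← hmy, inv_inv]
    have := h2 x hx hbz
    rw [← hφ, hxi] at this
    refine sqrt_unique (show Odd (Nat.card ↥K) from ⟨n, hn⟩) (hord x hx) (one_pow _) ?_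
    rw [one_mul]
    nth_rw 1 [← this]
    exact inv_mul_cancel x
  intro k hk
  rw [← hφ]
  have hφk : φ k ∈ K := by rw [hφ]; exact hzK k hk
  have := inv_triv (k⁻¹ * φ k) (K.mul_mem (K.inv_mem hk) hφk)
    (by rw [map_mul, map_inv, hφφ, mul_inv_rev, inv_inv])
  exact (inv_mul_eq_one.1 this).symm

end CfsgLib.LargeExtraspecial
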