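import Mathlib
import Cfsg.Agent.LargeExtraspecial.Extraspecial
import Cfsg.Agent.LargeExtraspecial.FourGroup

/-!
The criterion: if the centre of `Q` lies in `O₂(C(b))` for an involution `b ∈ Q` outside the centre,
then `Q` is large.
-/

set_option autoImplicit false

namespace CfsgLib.LargeExtraspecial

open Cfsg

variable {G : Type*} [Group G] [Finite G]

theorem isLarge_of_involution (Q : Subgroup G) (hE : IsExtraspecial 2 ↥Q)
    (hC : Subgroup.centralizer (Q : Set G) = zOf Q)
    (hN : Subgroup.centralizer (zOf Q : Set G) ≤ Subgroup.normalizer (Q : Set G))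
    (b : G) (hbQ : b ∈ Q) (hbZ : b ∉ zOf Q) (hb : orderOf b = 2)
    (hZ : zOf Q ≤ (pCore 2 ↥(Subgroup.centralizer ({b} : Set G))).map
      (Subgroup.centralizer ({b} : Set G)).subtype) :
    IsLargeExtraspecial Q := by
  haveI : Fact (Nat.Prime 2) := ⟨Nat.prime_two⟩
  refine ⟨hE, hC, hN, fun K hK hQK => eq_bot_of_le_centralizer_zOf hE.1.1 hC hN hK hQK ?_⟩
  obtain ⟨z, hz2, hzQ, hz⟩ := exists_gen hE
  have hzz : z * z = 1 := by rw [← pow_two, ← hz2, pow_orderOf_eq_one]
  have hbb : b * b = 1 := by rw [← pow_two, ← hb, pow_orderOf_eq_one]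
  have hzZ : z ∈ zOf Q := (hz z).2 (Or.inr rfl)
  have hzc := (mem_zOf.1 hzZ).2
  have hz' : z⁻¹ = z := inv_eq_of_mul_eq_one_right hzz
  have hb' : b⁻¹ = b := inv_eq_of_mul_eq_one_right hbb
  have hcq := Subgroup.le_normalizer_iff.1 hQK
  -- fixed points of `b` are fixed by `z`
  have h1 : ∀ k ∈ K, b * k * b = k → z * k * z = k := by
    intro k hk hbk
    have hkb : k ∈ Subgroup.centralizer ({b} : Set G) := by
      rw [Subgroup.mem_centralizer_singleton_iff]
      nth_rw 1 [← hbk]
      rw [mul_assoc, hbb, mul_one]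
    set P := (pCore 2 ↥(Subgroup.centralizer ({b} : Set G))).map
      (Subgroup.centralizer ({b} : Set G)).subtype
    have hPp : IsPGroup 2 ↥P := (isPGroup_pCore 2).map _
    have hkP : k * z * k⁻¹ ∈ P := by
      obtain ⟨y, hy, hyz⟩ := hZ hzZ
      exact ⟨⟨k, hkb⟩ * y * ⟨k, hkb⟩⁻¹, (pCore_normal 2 _).conj_mem y hy _, by simp [← hyz]⟩
    have := commute_of_odd_of_two_group hK hPp hk (hZ hzZ) (hcq z hzQ _ (K.inv_mem hk)) hkP
    rw [← this, mul_assoc, hzz, mul_one]
  obtain ⟨q, hq, hqb⟩ := exists_conj_eq_mul hE hz hbQ hbZ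
  intro k hk
  refine Subgroup.mem_centralizer_iff.2 fun x hx => ?_
  rcases (hz x).1 hx with rfl | rfl
  · simp
  · have key : x * k * x = k := by
      refine commute_of_four_group hzz hbb (hzc b hbQ).symm hK ?_ ?_ h1 ?_ k hk
      · intro j hj; have := hcq x hzQ j hj; rwa [hz'] at this
      · intro j hj; have := hcq b hbQ j hj; rwa [hb'] at this
      · intro j hj hjj
        have hqx : q * x = x * q := hzc q hq
        have hqb' : b * (q⁻¹ * j * q) * b = q⁻¹ * j * q := by
          have e : q * b = x * b * q := by rw [← hqb]; group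
          have e' : b * q⁻¹ = q⁻¹ * (x * b) := by
            rw [eq_inv_mul_iff_mul_eq, ← mul_assoc, e, mul_inv_cancel_right]
          calc b * (q⁻¹ * j * q) * b = (b * q⁻¹) * j * (q * b) := by simp only [mul_assoc]
            _ = q⁻¹ * ((x * b) * j * (x * b)) * q := by rw [e, e']; simp only [mul_assoc]
            _ = q⁻¹ * j * q := by
                have hbx : b * x = x * b := hzc b hbQ
                rw [hbx] at hjj
                rw [hjj]
        have := h1 _ (by simpa using hcq q⁻¹ (Q.inv_mem hq) j hj) hqb'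
        have h' := congrArg (fun t => q * t * q⁻¹) this
        calc x * j * x = q * q⁻¹ * x * j * x * q * q⁻¹ := by group
          _ = q * (x * (q⁻¹ * j * q) * x) * q⁻¹ := by
              have e1 : q⁻¹ * x = x * q⁻¹ := hzc q⁻¹ (Q.inv_mem hq)
              calc _ = q * (q⁻¹ * x) * j * (x * q) * q⁻¹ := by simp only [mul_assoc]
                _ = _ := by rw [e1, ← hqx]; simp only [mul_assoc]
          _ = j := by rw [this]; group
    nth_rw 1 [← key]
    simp only [← mul_assoc, hzz, one_mul]

end CfsgLib.LargeExtraspecial
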