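import Mathlib
import Cfsg.Agent.LargeExtraspecial.Extraspecial
import Cfsg.Agent.LargeExtraspecial.Criterion

/-!
Two conjugate central involutions of extraspecial subgroups: if `g z g⁻¹ ∈ Q` differs from `z`
and `Q` has width at least two, then `z ∈ g Q g⁻¹`, the four-group they generate has its full
automorphism group induced, and `Q` is large.
-/

set_option autoImplicit false

namespace CfsgLib.LargeExtraspecial

open Cfsg
open scoped commutatorElement

variable {G : Type*} [Group G]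

theorem mem_conj_iff (Q : Subgroup G) (g x : G) :
    x ∈ Q.map (MulAut.conj g).toMonoidHom ↔ g⁻¹ * x * g ∈ Q := by
  constructor
  · rintro ⟨y, hy, rfl⟩; simpa [mul_assoc] using hy
  · intro h; exact ⟨_, h, by simp [mul_assoc]⟩

theorem mem_conj_mem {Q : Subgroup G} (g : G) {x : G} (hx : x ∈ Q) :
    g * x * g⁻¹ ∈ Q.map (MulAut.conj g).toMonoidHom := ⟨x, hx, rfl⟩

/-- `Q` is extraspecial, its centre is `⟨z⟩`, `C(Q) = ⟨z⟩` and `C(z)` normalizes `Q`. -/
structure Setting (Q : Subgroup G) (z : G) : Prop where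
  extraspecial : IsExtraspecial 2 ↥Q
  mem_iff : ∀ x : G, x ∈ zOf Q ↔ x = 1 ∨ x = z
  order : orderOf z = 2
  centralizer_eq : Subgroup.centralizer (Q : Set G) = zOf Q
  normalized : ∀ c : G, c * z = z * c → ∀ q : G, q ∈ Q ↔ c * q * c⁻¹ ∈ Q

namespace Setting

variable {Q : Subgroup G} {z : G}

theorem z_mem_zOf (h : Setting Q z) : z ∈ zOf Q := (h.mem_iff z).2 (Or.inr rfl)

theorem z_mem (h : Setting Q z) : z ∈ Q := zOf_le Q h.z_mem_zOf

theorem comm (h : Setting Q z) {q : G} (hq : q ∈ Q) : q * z = z * q :=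
  (mem_zOf.1 h.z_mem_zOf).2 q hq

theorem z_ne_one (h : Setting Q z) : z ≠ 1 := by
  intro e; have := h.order; rw [e, orderOf_one] at this; omega

theorem z_mul_z (h : Setting Q z) : z * z = 1 := by rw [← pow_two, ← h.order, pow_orderOf_eq_one]

theorem not_mem_zOf (h : Setting Q z) {x : G} (h1 : x ≠ 1) (hz : x ≠ z) : x ∉ zOf Q :=
  fun hx => ((h.mem_iff x).1 hx).elim h1 hz

theorem conj (h : Setting Q z) (g : G) :
    Setting (Q.map (MulAut.conj g).toMonoidHom) (g * z * g⁻¹) := by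
  set U := Q.map (MulAut.conj g).toMonoidHom with hU
  have key : ∀ x : G, x ∈ zOf U ↔ g⁻¹ * x * g ∈ zOf Q := by
    intro x
    rw [mem_zOf, mem_zOf, hU, mem_conj_iff]
    refine and_congr_right fun _ => ⟨fun e q hq => ?_, fun e y hy => ?_⟩
    · have := e _ (mem_conj_mem g hq)
      calc q * (g⁻¹ * x * g) = g⁻¹ * ((g * q * g⁻¹) * x) * g := by group
        _ = g⁻¹ * x * g * q := by rw [this]; group
    · obtain ⟨q, hq, rfl⟩ := hy
      have := e q hq
      simp only [MulEquiv.coe_toMonoidHom, MulAut.conj_apply]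
      calc g * q * g⁻¹ * x = g * (q * (g⁻¹ * x * g)) * g⁻¹ := by group
        _ = x * (g * q * g⁻¹) := by rw [this]; group
  refine ⟨?_, fun x => ?_, ?_, ?_, fun c hc x => ?_⟩
  · let e : ↥Q ≃* ↥U := Q.equivMapOfInjective _ (MulAut.conj g).injective
    obtain ⟨⟨hp, hfr, hder⟩, hcard⟩ := h.extraspecial
    have hc : (Subgroup.center ↥Q).map e.toMonoidHom = Subgroup.center ↥U := by
      ext x
      constructor
      · rintro ⟨y, hy, rfl⟩
        rw [Subgroup.mem_center_iff]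
        intro u
        obtain ⟨v, rfl⟩ := e.surjective u
        show e v * e y = e y * e v
        rw [← map_mul, ← map_mul, Subgroup.mem_center_iff.1 hy v]
      · intro hx
        refine ⟨e.symm x, Subgroup.mem_center_iff.2 fun v => e.injective ?_, by simp⟩
        simp only [map_mul, MulEquiv.apply_symm_apply]
        exact Subgroup.mem_center_iff.1 hx (e v)
    have hf : (frattini ↥Q).map e.toMonoidHom = frattini ↥U := by
      refine le_antisymm ?_ ?_
      · rw [Subgroup.map_le_iff_le_comap]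
        exact frattini_le_comap_frattini_of_surjective (φ := e.toMonoidHom) e.surjective
      · intro x hx
        have := frattini_le_comap_frattini_of_surjective (φ := e.symm.toMonoidHom) e.symm.surjective hx
        exact ⟨e.symm x, this, by simp⟩
    have hd : (commutator ↥Q).map e.toMonoidHom = commutator ↥U := by
      rw [commutator_def, Subgroup.map_commutator, Subgroup.map_top_of_surjective _ e.surjective, ← commutator_def]
    refine ⟨⟨hp.map _, ?_, ?_⟩, ?_⟩
    · rw [← hf, hfr, hc]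
    · rw [← hd, hder, hc]
    · rw [← hc, ← hcard]
      exact Nat.card_congr ((Subgroup.center ↥Q).equivMapOfInjective _ e.injective).toEquiv.symm
  · rw [key, h.mem_iff]
    constructor
    · rintro (e | e)
      · left; calc x = g * (g⁻¹ * x * g) * g⁻¹ := by group
          _ = 1 := by rw [e]; group
      · right; rw [← e]; group
    · rintro (rfl | rfl)
      · left; group
      · right; group
  · exact (MulEquiv.orderOf_eq (MulAut.conj g) z).trans h.order
  · ext x
    rw [key, ← h.centralizer_eq, Subgroup.mem_centralizer_iff, Subgroup.mem_centralizer_iff]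
    refine ⟨fun e q hq => ?_, fun e y hy => ?_⟩
    · have := e _ (mem_conj_mem g hq)
      calc q * (g⁻¹ * x * g) = g⁻¹ * ((g * q * g⁻¹) * x) * g := by group
        _ = g⁻¹ * x * g * q := by rw [this]; group
    · obtain ⟨q, hq, rfl⟩ := hy
      have := e q hq
      simp only [MulEquiv.coe_toMonoidHom, MulAut.conj_apply]
      calc g * q * g⁻¹ * x = g * (q * (g⁻¹ * x * g)) * g⁻¹ := by group
        _ = x * (g * q * g⁻¹) := by rw [this]; group
  · rw [hU, mem_conj_iff, mem_conj_iff,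
      show g⁻¹ * (c * x * c⁻¹) * g = (g⁻¹ * c * g) * (g⁻¹ * x * g) * (g⁻¹ * c * g)⁻¹ by group]
    refine h.normalized _ ?_ _
    calc g⁻¹ * c * g * z = g⁻¹ * (c * (g * z * g⁻¹)) * g := by group
      _ = z * (g⁻¹ * c * g) := by rw [hc]; group

theorem conj_of_subgroup (h : Setting Q z) {R : Subgroup G} (hR : R ≤ Q) {x : G}
    (hx : ∀ q ∈ R, q * x = x * q) (hx2 : x ∈ R) : x ∈ zOf R := mem_zOf.2 ⟨hx2, hx⟩

/-- The centre of the centralizer in `Q` of a noncentral element `s`. -/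
theorem eq_of_comm_centralizer (h : Setting Q z) {s e : G} (hs : s ∈ Q) (hsz : s ∉ zOf Q)
    (he : e ∈ Q) (hes : e * s = s * e) (hall : ∀ p ∈ Q, p * s = s * p → p * e = e * p) :
    e ∈ zOf Q ∨ e * s⁻¹ ∈ zOf Q := by
  obtain ⟨q₀, hq₀, hq₀s⟩ := exists_conj_eq_mul h.extraspecial h.mem_iff hs hsz
  have mk : ∀ e' ∈ Q, (∀ p ∈ Q, p * s = s * p → p * e' = e' * p) → q₀ * e' = e' * q₀ → e' ∈ zOf Q := by
    intro e' he' ha h0
    refine mem_zOf.2 ⟨he', fun p hp => ?_⟩
    rcases conj_mem_two h.extraspecial h.mem_iff hp hs with e1 | e1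
    · exact ha p hp (mul_inv_eq_iff_eq_mul.1 e1)
    · have hp' : q₀⁻¹ * p ∈ Q := Q.mul_mem (Q.inv_mem hq₀) hp
      have hps : q₀⁻¹ * p * s = s * (q₀⁻¹ * p) := by
        calc q₀⁻¹ * p * s = q₀⁻¹ * (p * s * p⁻¹) * p := by group
          _ = q₀⁻¹ * (q₀ * s * q₀⁻¹) * p := by rw [e1, hq₀s]
          _ = s * (q₀⁻¹ * p) := by group
      calc p * e' = q₀ * ((q₀⁻¹ * p) * e') := by group
        _ = (q₀ * e') * (q₀⁻¹ * p) := by rw [ha _ hp' hps, mul_assoc]
        _ = e' * p := by rw [h0]; group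
  rcases conj_mem_two h.extraspecial h.mem_iff hq₀ he with e1 | e1
  · exact Or.inl (mk e he hall (mul_inv_eq_iff_eq_mul.1 e1))
  · refine Or.inr (mk _ (Q.mul_mem he (Q.inv_mem hs)) (fun p hp hps => ?_) ?_)
    · exact (Commute.mul_right (hall p hp hps) (Commute.inv_right hps))
    · apply mul_inv_eq_iff_eq_mul.1
      calc q₀ * (e * s⁻¹) * q₀⁻¹ = (q₀ * e * q₀⁻¹) * (q₀ * s * q₀⁻¹)⁻¹ := by group
        _ = z * e * (s⁻¹ * z) := by
            rw [e1, hq₀s, mul_inv_rev, inv_eq_of_mul_eq_one_right h.z_mul_z]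
        _ = z * (e * s⁻¹) * z := by group
        _ = e * s⁻¹ := by
            rw [← h.comm (Q.mul_mem he (Q.inv_mem hs)), mul_assoc, h.z_mul_z, mul_one]

end Setting

variable [Finite G]

/-- Width at least two gives a nonabelian centralizer of a noncentral element. -/
theorem centralizer_nonabelian {Q : Subgroup G} {z : G} (h : Setting Q z) (hw : 32 ≤ Nat.card ↥Q)
    {s : G} (hs : s ∈ Q) (hsz : s ∉ zOf Q) :
    ∃ p ∈ Q, ∃ q ∈ Q, p * s = s * p ∧ q * s = s * q ∧ p * q * p⁻¹ * q⁻¹ = z := by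
  by_contra hne
  push Not at hne
  obtain ⟨q₀, hq₀, hq₀s⟩ := exists_conj_eq_mul h.extraspecial h.mem_iff hs hsz
  have hcen : ∀ e ∈ Q, e * s = s * e → e = 1 ∨ e = z ∨ e = s ∨ e = z * s := by
    intro e he hes
    have hall : ∀ p ∈ Q, p * s = s * p → p * e = e * p := by
      intro p hp hps
      rcases (h.mem_iff _).1 (comm_mem h.extraspecial hp he) with e1 | e1
      · exact mul_inv_eq_iff_eq_mul.1 (mul_inv_eq_one.1 e1)
      · exact absurd e1 (hne p hp e he hps hes)
    rcases h.eq_of_comm_centralizer hs hsz he hes hall with e1 | e1 <;>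
      rcases (h.mem_iff _).1 e1 with e2 | e2
    · exact Or.inl e2
    · exact Or.inr (Or.inl e2)
    · exact Or.inr (Or.inr (Or.inl (mul_inv_eq_one.1 e2)))
    · exact Or.inr (Or.inr (Or.inr (mul_inv_eq_iff_eq_mul.1 e2)))
  have hsub : (Q : Set G) ⊆ {1, z, s, z * s} ∪ (fun e => q₀ * e) '' {1, z, s, z * s} := by
    intro x hx
    rcases conj_mem_two h.extraspecial h.mem_iff hx hs with e1 | e1
    · left; simpa using hcen x hx (mul_inv_eq_iff_eq_mul.1 e1)
    · right
      refine ⟨q₀⁻¹ * x, ?_, by simp⟩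
      have : q₀⁻¹ * x * s = s * (q₀⁻¹ * x) := by
        calc q₀⁻¹ * x * s = q₀⁻¹ * (x * s * x⁻¹) * x := by group
          _ = q₀⁻¹ * (q₀ * s * q₀⁻¹) * x := by rw [e1, hq₀s]
          _ = s * (q₀⁻¹ * x) := by group
      simpa using hcen _ (Q.mul_mem (Q.inv_mem hq₀) hx) this
  classical
  have h4 : ({1, z, s, z * s} : Set G).ncard ≤ 4 := by
    refine (Set.ncard_insert_le _ _).trans (Nat.succ_le_succ ((Set.ncard_insert_le _ _).trans
      (Nat.succ_le_succ ((Set.ncard_insert_le _ _).trans ?_))))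
    simp
  have h8 := (Set.ncard_le_ncard hsub (Set.toFinite _)).trans (Set.ncard_union_le _ _)
  have := Set.ncard_image_le (f := fun e => q₀ * e) (Set.toFinite ({1, z, s, z * s} : Set G))
  have hQ : (Q : Set G).ncard = Nat.card ↥Q := rfl
  omega

/-- The key symmetry: `z` lies in the conjugate of `Q` with centre `g z g⁻¹`. -/
theorem mem_conj_of_conj_mem {Q : Subgroup G} {z : G} (h : Setting Q z) (hw : 32 ≤ Nat.card ↥Q)
    (g : G) (hgQ : g * z * g⁻¹ ∈ Q) (hgz : g * z * g⁻¹ ≠ z) :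
    z ∈ Q.map (MulAut.conj g).toMonoidHom := by
  set s := g * z * g⁻¹ with hs
  set U := Q.map (MulAut.conj g).toMonoidHom with hU
  have hU' : Setting U s := h.conj g
  clear_value s
  have hzz := h.z_mul_z
  have hzi : z⁻¹ = z := inv_eq_of_mul_eq_one_right hzz
  have hsz : s ∉ zOf Q := h.not_mem_zOf hU'.z_ne_one hgz
  have hss := hU'.z_mul_z
  have hsi : s⁻¹ = s := inv_eq_of_mul_eq_one_right hss
  have hzs : z * s = s * z := (h.comm hgQ).symm
  obtain ⟨q₀, hq₀, hq₀s⟩ := exists_conj_eq_mul h.extraspecial h.mem_iff hgQ hsz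
  by_cases hu : ∃ u ∈ U, u * z * u⁻¹ = z * s
  · -- symmetric case
    obtain ⟨u, huU, huz⟩ := hu
    have hus : u * s * u⁻¹ = s := by rw [hU'.comm huU, mul_inv_cancel_right]
    have hqz : q₀ * z * q₀⁻¹ = z := by rw [h.comm hq₀, mul_inv_cancel_right]
    set t := u * q₀ * u with ht
    have htz : t * z * t⁻¹ = s := by
      calc t * z * t⁻¹ = u * (q₀ * (u * z * u⁻¹) * q₀⁻¹) * u⁻¹ := by rw [ht]; group
        _ = u * ((q₀ * z * q₀⁻¹) * (q₀ * s * q₀⁻¹)) * u⁻¹ := by rw [huz]; group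
        _ = u * (z * z * s) * u⁻¹ := by rw [hqz, hq₀s, mul_assoc z z s]
        _ = s := by rw [hzz, one_mul, hus]
    have hts : t * s * t⁻¹ = z := by
      calc t * s * t⁻¹ = u * (q₀ * (u * s * u⁻¹) * q₀⁻¹) * u⁻¹ := by rw [ht]; group
        _ = u * (z * s) * u⁻¹ := by rw [hus, hq₀s]
        _ = (u * z * u⁻¹) * (u * s * u⁻¹) := by group
        _ = z := by rw [huz, hus, mul_assoc, hss, mul_one]
    have hc : (g⁻¹ * t) * z = z * (g⁻¹ * t) := by
      calc g⁻¹ * t * z = g⁻¹ * (t * z * t⁻¹) * t := by group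
        _ = z * (g⁻¹ * t) := by rw [htz, hs]; group
    rw [hU, mem_conj_iff]
    have := (h.normalized _ hc s).1 hgQ
    rw [show g⁻¹ * t * s * (g⁻¹ * t)⁻¹ = g⁻¹ * (t * s * t⁻¹) * g by group, hts] at this
    exact this
  -- otherwise a contradiction
  push Not at hu
  by_contra hzU
  have hzN : ∀ u, u ∈ U ↔ z * u * z⁻¹ ∈ U := hU'.normalized z hzs
  have hX : ∀ u ∈ U, z * u * z⁻¹ * u⁻¹ ∈ zOf U → z * u = u * z := by
    intro u hu' hc
    rcases (hU'.mem_iff _).1 hc with e | e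
    · exact mul_inv_eq_iff_eq_mul.1 (mul_inv_eq_one.1 e)
    · exfalso
      apply hu u hu'
      calc u * z * u⁻¹ = (z * u * z⁻¹ * u⁻¹)⁻¹ * z := by group
        _ = z * s := by rw [e, hsi, hzs]
  -- commutators with `z` are centralized by `z`
  have hcX : ∀ u ∈ U, z * (z * u * z⁻¹ * u⁻¹) = (z * u * z⁻¹ * u⁻¹) * z := by
    intro u hu'
    have hc : z * u * z⁻¹ * u⁻¹ ∈ U := U.mul_mem ((hzN u).1 hu') (U.inv_mem hu')
    refine hX _ hc ?_
    set c := z * u * z⁻¹ * u⁻¹ with hcd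
    have e : z * c * z⁻¹ = c⁻¹ := by
      rw [hcd]
      calc z * (z * u * z⁻¹ * u⁻¹) * z⁻¹ = (z * z) * u * z⁻¹ * u⁻¹ * z⁻¹ := by group
        _ = u * (z * u⁻¹ * z⁻¹) := by rw [hzz, one_mul]; simp only [hzi, mul_assoc]
        _ = (z * u * z⁻¹ * u⁻¹)⁻¹ := by group
    rw [e, ← mul_inv_rev]
    exact (zOf U).inv_mem (sq_mem hU'.extraspecial hc)
  -- `C_U(C_U(z)) ≤ C_U(z)`
  have hY : ∀ y ∈ U, (∀ x ∈ U, z * x = x * z → x * y = y * x) → z * y = y * z := by
    intro y hy hall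
    refine hX y hy ?_
    set d := z * y * z⁻¹ * y⁻¹ with hd
    have hdU : d ∈ U := U.mul_mem ((hzN y).1 hy) (U.inv_mem hy)
    refine mem_zOf.2 ⟨hdU, fun v hv => ?_⟩
    set u := z * v * z⁻¹ with hudef
    have huU : u ∈ U := (hzN v).1 hv
    set c := z * u * z⁻¹ * u⁻¹ with hcdef
    have hvc : v = c * u := by
      rw [hcdef, hudef]
      calc v = (z * z) * v * (z * z)⁻¹ := by rw [hzz]; group
        _ = _ := by group
    have hcU : c ∈ U := U.mul_mem ((hzN u).1 huU) (U.inv_mem huU)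
    clear_value c
    have hcy : c * y = y * c := hall c hcU (by rw [hcdef]; exact hcX u huU)
    have hu2 : z * u * z⁻¹ = v := by rw [hvc, hcdef]; group
    -- the commutator of `v` and `y` is unchanged by `z`
    set k := v * y * v⁻¹ * y⁻¹ with hk
    have hkz : k ∈ zOf U := comm_mem hU'.extraspecial hv hy
    have hkc : z * k * z⁻¹ = k := by
      rcases (hU'.mem_iff k).1 hkz with e | e <;> rw [e]
      · group
      · rw [hzs, mul_inv_cancel_right]
    have hkzy : u * (z * y * z⁻¹) * u⁻¹ * (z * y * z⁻¹)⁻¹ = k := by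
      rw [← hkc, hk, hudef]; group
    have huy : u * y * u⁻¹ * y⁻¹ = k := by
      rw [hk, hvc]
      calc u * y * u⁻¹ * y⁻¹ = (u * y * u⁻¹ * y⁻¹) * (c * c⁻¹) := by rw [mul_inv_cancel, mul_one]
        _ = c * (u * y * u⁻¹ * y⁻¹) * c⁻¹ := by
            rw [(mem_zOf.1 (comm_mem hU'.extraspecial huU hy)).2 c hcU]
            group
        _ = c * u * y * u⁻¹ * (y⁻¹ * c⁻¹) := by group
        _ = c * u * y * u⁻¹ * (c⁻¹ * y⁻¹) := by
            rw [show y⁻¹ * c⁻¹ = c⁻¹ * y⁻¹ by rw [← mul_inv_rev, hcy, mul_inv_rev]]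
        _ = _ := by group
    have hyd : z * y * z⁻¹ = d * y := by rw [hd]; group
    have hud : u * d = d * u := by
      rw [hyd] at hkzy
      have hk2 := (mem_zOf.1 hkz).2 d hdU
      have h1 : u * d * u⁻¹ * k * d⁻¹ = k := by
        calc u * d * u⁻¹ * k * d⁻¹ = u * d * u⁻¹ * (u * y * u⁻¹ * y⁻¹) * d⁻¹ := by rw [huy]
          _ = u * (d * y) * u⁻¹ * (d * y)⁻¹ := by group
          _ = k := hkzy
      have h3 : k * d⁻¹ = d⁻¹ * k := by
        rw [eq_inv_mul_iff_mul_eq, ← mul_assoc, hk2, mul_inv_cancel_right]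
      have h2 : u * d * u⁻¹ * d⁻¹ = 1 := by
        calc u * d * u⁻¹ * d⁻¹ = u * d * u⁻¹ * (k * d⁻¹) * k⁻¹ := by rw [h3]; group
          _ = (u * d * u⁻¹ * k * d⁻¹) * k⁻¹ := by group
          _ = 1 := by rw [h1, mul_inv_cancel]
      exact mul_inv_eq_iff_eq_mul.1 (mul_inv_eq_one.1 h2)
    rw [hvc]
    rcases conj_mem_two hU'.extraspecial hU'.mem_iff
        hcU hdU with e | e
    · exact (Commute.mul_left (mul_inv_eq_iff_eq_mul.1 e : c * d = d * c) hud)
    · exfalso
      -- `c` commutes with `z` and `y`, hence with `d`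
      have : c * d * c⁻¹ = d := by
        have hcz := hcX u huU
        rw [← hcdef] at hcz
        rw [hd]
        calc c * (z * y * z⁻¹ * y⁻¹) * c⁻¹
            = (c * z) * y * (c * z)⁻¹ * (c * y * c⁻¹)⁻¹ := by group
          _ = z * (c * y * c⁻¹) * z⁻¹ * (c * y * c⁻¹)⁻¹ := by rw [← hcz]; group
          _ = z * y * z⁻¹ * y⁻¹ := by rw [hcy, mul_inv_cancel_right]
      rw [this] at e
      exact hU'.z_ne_one (mul_eq_right.1 e.symm)
  -- `C_Q(s)` acts trivially on `C_U(z)` modulo `⟨s⟩`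
  have hQU : ∀ e ∈ Q, e ∈ U → e ∈ zOf U := by
    intro e heQ heU
    have hes := hU'.comm heU
    have hall : ∀ p ∈ Q, p * s = s * p → p * e = e * p := by
      intro p hp hps
      rcases (h.mem_iff _).1 (comm_mem h.extraspecial hp heQ) with e1 | e1
      · exact mul_inv_eq_iff_eq_mul.1 (mul_inv_eq_one.1 e1)
      · exact absurd (e1 ▸ U.mul_mem ((hU'.normalized p hps e).1 heU) (U.inv_mem heU)) hzU
    rcases h.eq_of_comm_centralizer hgQ hsz heQ hes hall with e1 | e1 <;>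
      rcases (h.mem_iff _).1 e1 with e2 | e2
    · exact (hU'.mem_iff _).2 (Or.inl e2)
    · exact absurd (e2 ▸ heU) hzU
    · exact (hU'.mem_iff _).2 (Or.inr (mul_inv_eq_one.1 e2))
    · exact absurd (e2 ▸ U.mul_mem heU (U.inv_mem hU'.z_mem)) hzU
  have hPX : ∀ p ∈ Q, p * s = s * p → ∀ x ∈ U, z * x = x * z → p * x * p⁻¹ * x⁻¹ ∈ zOf U := by
    intro p hp hps x hx hxz
    refine hQU _ ?_ (U.mul_mem ((hU'.normalized p hps x).1 hx) (U.inv_mem hx))
    rw [show p * x * p⁻¹ * x⁻¹ = p * (x * p⁻¹ * x⁻¹) by group]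
    exact Q.mul_mem hp ((h.normalized x hxz.symm _).1 (Q.inv_mem hp))
  have hPU : ∀ p ∈ Q, p * s = s * p → ∀ u ∈ U,
      z * (p * u * p⁻¹ * u⁻¹) = (p * u * p⁻¹ * u⁻¹) * z := by
    intro p hp hps u hu'
    set u' := p * u * p⁻¹ with hu'd
    have hu'U : u' ∈ U := (hU'.normalized p hps u).1 hu'
    refine hY _ (U.mul_mem hu'U (U.inv_mem hu')) fun x hx hxz => ?_
    -- `[u', x] = [u, x]`
    have hps' : p⁻¹ * s = s * p⁻¹ := (Commute.inv_left hps)
    have hx' := hPX p⁻¹ (Q.inv_mem hp) hps' x hx hxz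
    set k := u * x * u⁻¹ * x⁻¹ with hk
    have hkz : k ∈ zOf U := comm_mem hU'.extraspecial hu' hx
    set x' := p⁻¹ * x * p⁻¹⁻¹ with hx'd
    obtain ⟨e, he, hxe⟩ : ∃ e ∈ zOf U, x' = e * x := ⟨_, hx', by group⟩
    have hpk : p * k * p⁻¹ = k := by
      rcases (hU'.mem_iff k).1 hkz with r | r <;> rw [r]
      · group
      · rw [hps, mul_inv_cancel_right]
    have h1 : u * x' * u⁻¹ * x'⁻¹ = k := by
      have he' := (mem_zOf.1 he).2
      calc u * x' * u⁻¹ * x'⁻¹ = (u * e) * x * u⁻¹ * x⁻¹ * e⁻¹ := by rw [hxe]; group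
        _ = e * k * e⁻¹ := by rw [he' u hu', hk]; group
        _ = k := by rw [← he' k (zOf_le U hkz), mul_inv_cancel_right]
    have h2 : u' * x * u'⁻¹ * x⁻¹ = k := by
      calc u' * x * u'⁻¹ * x⁻¹ = p * (u * x' * u⁻¹ * x'⁻¹) * p⁻¹ := by rw [hu'd, hx'd]; group
        _ = k := by rw [h1, hpk]
    have h3 : u⁻¹ * (u' * x * u'⁻¹ * x⁻¹) = u⁻¹ * (u * x * u⁻¹ * x⁻¹) := by rw [h2, hk]
    have hk' := (mem_zOf.1 hkz).2
    calc x * (u' * u⁻¹) = (u' * x * u'⁻¹ * x⁻¹)⁻¹ * u' * x * u⁻¹ := by group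
      _ = (k⁻¹ * u') * (x * u⁻¹) := by rw [h2]; group
      _ = (u' * k⁻¹) * (x * u⁻¹) := by
          have := (mem_zOf.1 ((zOf U).inv_mem hkz)).2 u' hu'U
          rw [this]
      _ = u' * (u * x * u⁻¹ * x⁻¹)⁻¹ * x * u⁻¹ := by rw [hk]; group
      _ = u' * (u * x * u⁻¹ * x⁻¹)⁻¹ * (u * x * u⁻¹ * x⁻¹) * u⁻¹ * x := by
          rw [mul_assoc (u' * (u * x * u⁻¹ * x⁻¹)⁻¹) (u * x * u⁻¹ * x⁻¹) u⁻¹,
            ← hk, ← hk' u⁻¹ (U.inv_mem hu'), hk]
          group
      _ = u' * u⁻¹ * x := by group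
  obtain ⟨p, hp, q, hq, hps, hqs, hpq⟩ := centralizer_nonabelian h hw hgQ hsz
  -- `z` centralizes `U` modulo its centre
  letI : CommGroup (↥U ⧸ Subgroup.center ↥U) :=
    { (inferInstance : Group (↥U ⧸ Subgroup.center ↥U)) with
      mul_comm := by
        intro x y
        induction x using QuotientGroup.induction_on with
        | _ x =>
        induction y using QuotientGroup.induction_on with
        | _ y =>
        rw [← QuotientGroup.mk_mul, ← QuotientGroup.mk_mul, QuotientGroup.eq,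
          ← hU'.extraspecial.1.2.2]
        have := Subgroup.commutator_mem_commutator (Subgroup.mem_top y⁻¹) (Subgroup.mem_top x⁻¹)
        rw [commutatorElement_def] at this
        rw [commutator_def]
        simpa [mul_assoc] using this }
  have hcen : ∀ a : ↥U, (a : G) ∈ zOf U → a ∈ Subgroup.center ↥U := by
    rintro a ⟨b, hb, hba⟩
    exact (Subtype.ext hba : b = a) ▸ hb
  let act : (r : G) → r * s = s * r → ↥U → ↥U := fun r hr u =>
    ⟨r * u * r⁻¹, (hU'.normalized r hr u).1 u.2⟩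
  have hfix : ∀ r ∈ Q, ∀ hr : r * s = s * r, ∀ y : ↥U, z * (y : G) = y * z →
      (QuotientGroup.mk (act r hr y) : ↥U ⧸ Subgroup.center ↥U) = QuotientGroup.mk y := by
    intro r hrQ hr y hyz
    rw [QuotientGroup.eq_iff_div_mem]
    apply hcen
    simpa [act, div_eq_mul_inv] using hPX r hrQ hr y y.2 hyz
  let δ : (r : G) → r * s = s * r → ↥U → ↥U := fun r hr u => act r hr u * u⁻¹
  have hδ : ∀ r ∈ Q, ∀ hr : r * s = s * r, ∀ u : ↥U, z * (δ r hr u : G) = δ r hr u * z :=
    fun r hrQ hr u => by simpa [δ, act] using hPU r hrQ hr u u.2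
  have haction : ∀ (r t : G), r ∈ Q → t ∈ Q → ∀ (hr : r * s = s * r) (ht : t * s = s * t),
      ∀ u : ↥U, (QuotientGroup.mk (act r hr (act t ht u)) : ↥U ⧸ Subgroup.center ↥U) =
        QuotientGroup.mk (δ t ht u) * QuotientGroup.mk (δ r hr u) * QuotientGroup.mk u := by
    intro r t hrQ htQ hr ht u
    have e : act r hr (act t ht u) = act r hr (δ t ht u) * (δ r hr u * u) :=
      Subtype.ext (by simp [δ, act, mul_assoc])
    rw [e, QuotientGroup.mk_mul, QuotientGroup.mk_mul, hfix r hrQ hr _ (hδ t htQ ht u), mul_assoc]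
  have hcomm : ∀ u : ↥U, (QuotientGroup.mk (act p hps (act q hqs u)) : ↥U ⧸ Subgroup.center ↥U) =
      QuotientGroup.mk (act q hqs (act p hps u)) := by
    intro u
    rw [haction p q hp hq hps hqs u, haction q p hq hp hqs hps u, mul_comm (QuotientGroup.mk (δ q hqs u))]
  have hzc : ∀ u ∈ U, z * u = u * z := by
    intro u hu'
    refine hX u hu' ?_
    have hu2 : p⁻¹ * (q⁻¹ * u * q) * p ∈ U := by
      have h1 := (hU'.normalized q⁻¹ (Commute.inv_left hqs) u).1 hu'
      have h2 := (hU'.normalized p⁻¹ (Commute.inv_left hps) _).1 h1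
      simpa using h2
    have := hcomm ⟨_, hu2⟩
    rw [QuotientGroup.eq_iff_div_mem] at this
    have h2 := Subgroup.mem_map_of_mem U.subtype this
    have e : U.subtype (act p hps (act q hqs ⟨_, hu2⟩) / act q hqs (act p hps ⟨_, hu2⟩)) =
        z * u * z⁻¹ * u⁻¹ := by
      rw [← hpq]
      simp [act, div_eq_mul_inv]
      group
    rwa [e] at h2
  have : z ∈ zOf U := by
    rw [← hU'.centralizer_eq]
    exact Subgroup.mem_centralizer_iff.2 fun u hu' => (hzc u hu').symm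
  exact hzU (zOf_le U this)

/-- The four-group generated by two such involutions and its automizer; largeness. -/
theorem isLarge_of_conj_mem {Q : Subgroup G} {z : G} (h : Setting Q z) (hw : 32 ≤ Nat.card ↥Q)
    (g : G) (hgQ : g * z * g⁻¹ ∈ Q) (hgz : g * z * g⁻¹ ≠ z) : IsLargeExtraspecial Q := by
  haveI : Fact (Nat.Prime 2) := ⟨Nat.prime_two⟩
  set s := g * z * g⁻¹ with hs
  have hU := h.conj g
  have hsz : s ∉ zOf Q := h.not_mem_zOf hU.z_ne_one hgz
  have hN : Subgroup.centralizer (zOf Q : Set G) ≤ Subgroup.normalizer (Q : Set G) := by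
    intro c hc
    rw [Subgroup.mem_normalizer_iff]
    exact h.normalized c (Subgroup.mem_centralizer_iff.1 hc z h.z_mem_zOf).symm
  refine isLarge_of_involution Q h.extraspecial h.centralizer_eq hN s hgQ hsz hU.order ?_
  set U := Q.map (MulAut.conj g).toMonoidHom with hUd
  set C := Subgroup.centralizer ({s} : Set G) with hC
  haveI hn : (U.subgroupOf C).Normal := ⟨fun n hn c => by
    rw [Subgroup.mem_subgroupOf] at hn ⊢
    exact (hU.normalized _ (Subgroup.mem_centralizer_singleton_iff.1 c.2) _).1 hn⟩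
  have hp : IsPGroup 2 ↥(U.subgroupOf C) := (isPGroup_of_isExtraspecial hU.extraspecial).comap_subtype
  have hzC : z ∈ C := Subgroup.mem_centralizer_singleton_iff.2 (h.comm hgQ).symm
  have hzU : (⟨z, hzC⟩ : ↥C) ∈ U.subgroupOf C := mem_conj_of_conj_mem h hw g hgQ hgz
  intro x hx
  rcases (h.mem_iff x).1 hx with rfl | rfl
  · exact Subgroup.one_mem _
  · exact ⟨⟨x, hzC⟩, le_sSup (show U.subgroupOf C ∈ {N : Subgroup ↥C | N.Normal ∧ IsPGroup 2 ↥N} from ⟨hn, hp⟩) hzU, rfl⟩

end CfsgLib.LargeExtraspecial
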