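import Mathlib
import Cfsg.Agent.LargeExtraspecial.Pair
import Cfsg.Agent.Cores.Layer
import Cfsg.Agent.Cores.GenFitting
import Cfsg.Agent.Eq.Def_Local

/-!
Invariant subgroups of a large extraspecial subgroup `Q`: each nontrivial one contains the central
involution, a perfect one centralizing it is trivial.
-/

set_option autoImplicit false

namespace CfsgLib.LargeExtraspecial

open Cfsg
open scoped commutatorElement

variable {G : Type*} [Group G] [Finite G]

theorem setting_of_large {Q : Subgroup G} (hQ : IsLargeExtraspecial Q) {z : G}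
    (hz : zOf Q = Subgroup.zpowers z) : Setting Q z := by
  obtain ⟨hE, hC, hN, -⟩ := hQ
  obtain ⟨w, hw2, hwQ, hw⟩ := exists_gen hE
  have hzmem : z ∈ zOf Q := hz.symm ▸ Subgroup.mem_zpowers z
  have hz1 : z ≠ 1 := by
    intro e
    have := card_zOf hE
    rw [hz, e, Subgroup.zpowers_one_eq_bot, Subgroup.card_bot] at this
    omega
  obtain rfl : z = w := ((hw z).1 hzmem).resolve_left hz1
  refine ⟨hE, hw, hw2, hC, fun c hc => ?_⟩
  refine fun q => Subgroup.mem_normalizer_iff.1 (hN (Subgroup.mem_centralizer_iff.2 fun x hx => ?_)) q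
  rcases (hw x).1 hx with rfl | rfl
  · simp
  · exact hc.symm

variable {Q : Subgroup G} {z : G}

/-- A nontrivial subgroup normalized by `Q` contains `z`. -/
theorem mem_of_invariant (hQ : IsLargeExtraspecial Q) (h : Setting Q z) {X : Subgroup G}
    (hX : X ≠ ⊥) (hQX : Q ≤ Subgroup.normalizer (X : Set G)) : z ∈ X := by
  haveI : Fact (Nat.Prime 2) := ⟨Nat.prime_two⟩
  have h2 : 2 ∣ Nat.card ↥X := by
    by_contra hn
    exact hX (hQ.2.2.2 X (Nat.odd_iff.2 (by omega)) hQX)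
  obtain ⟨t, ht⟩ := exists_prime_orderOf_dvd_card' 2 h2
  set K := Subgroup.normalizer (X : Set G) with hK
  have hQp : IsPGroup 2 ↥(Q.subgroupOf K) := (isPGroup_of_isExtraspecial hQ.1).comap_subtype
  obtain ⟨P, hP⟩ := hQp.exists_le_sylow
  have htK : (t : G) ∈ K := Subgroup.le_normalizer t.2
  have htp : IsPGroup 2 ↥(Subgroup.zpowers (⟨t, htK⟩ : ↥K)) := by
    rw [IsPGroup.iff_card]
    exact ⟨1, by rw [Nat.card_zpowers, ← Subgroup.orderOf_coe, pow_one]; exact (Subgroup.orderOf_coe t).trans ht⟩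
  obtain ⟨P', hP'⟩ := htp.exists_le_sylow
  obtain ⟨g, hg⟩ := MulAction.exists_smul_eq ↥K P' P
  set Y : Subgroup G := X ⊓ (P : Subgroup ↥K).map K.subtype with hY
  have ht' : (g : G) * t * (g : G)⁻¹ ∈ Y := by
    refine ⟨(Subgroup.mem_normalizer_iff.1 g.2 t).1 t.2, ?_⟩
    refine ⟨g * ⟨t, htK⟩ * g⁻¹, ?_, rfl⟩
    rw [← hg]
    have := hP' (Subgroup.mem_zpowers _)
    exact Subgroup.smul_mem_pointwise_smul (α := MulAut ↥K) _ (MulAut.conj g) _ this
  have ht1 : (g : G) * t * (g : G)⁻¹ ≠ 1 := by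
    intro e
    rw [conj_eq_one_iff] at e
    have : orderOf (t : G) = 2 := (Subgroup.orderOf_coe t).trans ht
    rw [e, orderOf_one] at this
    omega
  have hYp : IsPGroup 2 ↥Y := (P.isPGroup'.map K.subtype).to_le inf_le_right
  have hQY : ∀ q : ↥Q, ∀ y ∈ Y, (q : G) * y * (q : G)⁻¹ ∈ Y := by
    intro q y hy
    refine ⟨(Subgroup.mem_normalizer_iff.1 (hQX q.2) y).1 hy.1, ?_⟩
    have hqP : (⟨q, hQX q.2⟩ : ↥K) ∈ (P : Subgroup ↥K) :=
      hP (show (⟨(q : G), hQX q.2⟩ : ↥K) ∈ Q.subgroupOf K from q.2)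
    have : (q : G) ∈ (P : Subgroup ↥K).map K.subtype := ⟨_, hqP, rfl⟩
    exact Subgroup.mul_mem _ (Subgroup.mul_mem _ this hy.2) (Subgroup.inv_mem _ this)
  letI : MulAction ↥Q ↥Y :=
    { smul := fun q y => ⟨(q : G) * y * (q : G)⁻¹, hQY q y y.2⟩
      one_smul := fun y => Subtype.ext (show ((1 : ↥Q) : G) * y * ((1 : ↥Q) : G)⁻¹ = y by simp)
      mul_smul := fun a b y => Subtype.ext (show ((a * b : ↥Q) : G) * y * ((a * b : ↥Q) : G)⁻¹ =
        (a : G) * ((b : G) * y * (b : G)⁻¹) * (a : G)⁻¹ by simp [mul_assoc]) }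
  have hY2 : 2 ∣ Nat.card ↥Y := by
    obtain ⟨n, hn⟩ := IsPGroup.iff_card.1 hYp
    rw [hn]
    refine dvd_pow_self 2 ?_
    rintro rfl
    rw [pow_zero] at hn
    rw [Subgroup.card_eq_one.1 hn, Subgroup.mem_bot] at ht'
    exact ht1 ht'
  obtain ⟨y, hyf, hy1⟩ := (isPGroup_of_isExtraspecial hQ.1).exists_fixed_point_of_prime_dvd_card_of_fixed_point
    ↥Y hY2 (a := 1) (fun q => Subtype.ext (show (q : G) * ((1 : ↥Y) : G) * (q : G)⁻¹ = ((1 : ↥Y) : G) by simp))
  have hyC : (y : G) ∈ zOf Q := by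
    rw [← h.centralizer_eq]
    refine Subgroup.mem_centralizer_iff.2 fun q hq => ?_
    exact mul_inv_eq_iff_eq_mul.1 (congrArg Subtype.val (hyf ⟨q, hq⟩) : q * (y : G) * q⁻¹ = y)
  rcases (h.mem_iff _).1 hyC with e | e
  · exact absurd (Subtype.ext e).symm hy1
  · exact e ▸ y.2.1

/-- A perfect invariant subgroup centralizing `z` with trivial largest normal 2-subgroup over its
centre is trivial. -/
theorem eq_bot_of_perfect (h : Setting Q z) {X : Subgroup G} (hperf : ⁅X, X⁆ = X)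
    (hXz : ∀ x ∈ X, x * z = z * x) (hQX : Q ≤ Subgroup.normalizer (X : Set G))
    (hcen : ∀ x ∈ X, x ∈ Q → ∀ y ∈ X, x * y = y * x) : X = ⊥ := by
  have hcomm : ⁅Q, X⁆ ≤ X ⊓ Q := by
    rw [Subgroup.commutator_le]
    intro q hq x hx
    rw [commutatorElement_def]
    constructor
    · exact X.mul_mem ((Subgroup.mem_normalizer_iff.1 (hQX hq) x).1 hx) (X.inv_mem hx)
    · rw [show q * x * q⁻¹ * x⁻¹ = q * (x * q⁻¹ * x⁻¹) by group]
      exact Q.mul_mem hq ((h.normalized x (hXz x hx) _).1 (Q.inv_mem hq))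
  have h2 : ⁅⁅Q, X⁆, X⁆ = ⊥ := Cores.commutator_eq_bot_of_forall_commute fun a ha b hb =>
    hcen a (hcomm ha).1 (hcomm ha).2 b hb
  have h3 := Cores.commutator_eq_bot_of_perfect hperf h2
  have hle : X ≤ Subgroup.centralizer (Q : Set G) :=
    Subgroup.commutator_eq_bot_iff_le_centralizer.1 (Cores.commutator_eq_bot_comm.1 h3)
  rw [h.centralizer_eq] at hle
  rw [eq_bot_iff, ← hperf, Subgroup.commutator_le]
  intro a ha b hb
  rw [Subgroup.mem_bot, commutatorElement_eq_one_iff_mul_comm]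
  exact (mem_zOf.1 (hle hb)).2 a (zOf_le Q (hle ha))

/-- Some Sylow 2-subgroup containing `Q` centralizes `z`. -/
theorem exists_sylow_central (hQ : IsLargeExtraspecial Q) (h : Setting Q z) :
    ∃ S : Sylow 2 G, Q ≤ (S : Subgroup G) ∧ ∀ x ∈ (S : Subgroup G), x * z = z * x := by
  haveI : Fact (Nat.Prime 2) := ⟨Nat.prime_two⟩
  obtain ⟨S, hS⟩ := (isPGroup_of_isExtraspecial hQ.1).exists_le_sylow
  refine ⟨S, hS, ?_⟩
  haveI : Nontrivial ↥(S : Subgroup G) := by
    rw [Subgroup.nontrivial_iff_ne_bot]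
    intro e
    exact h.z_ne_one (Subgroup.mem_bot.1 (e ▸ hS h.z_mem))
  haveI := S.isPGroup'.center_nontrivial
  obtain ⟨c, hc⟩ := exists_ne (1 : ↥(Subgroup.center ↥(S : Subgroup G)))
  have hcm : ((c : ↥(S : Subgroup G)) : G) ∈ zOf Q := by
    rw [← h.centralizer_eq]
    exact Subgroup.mem_centralizer_iff.2 fun q hq =>
      congrArg Subtype.val (Subgroup.mem_center_iff.1 c.2 ⟨q, hS hq⟩)
  rcases (h.mem_iff _).1 hcm with e | e
  · exact absurd (Subtype.ext (Subtype.ext e)) hc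
  · intro x hx
    rw [← e]
    exact congrArg Subtype.val (Subgroup.mem_center_iff.1 c.2 ⟨x, hx⟩)

/-- A nonabelian simple group has no involution with centralizer of order two. -/
theorem not_centralizer_two {L : Type*} [Group L] [Finite L] [IsSimpleGroup L]
    (hL : ¬ IsMulCommutative L) {x : L} (hx : orderOf x = 2)
    (hC : ∀ r : L, r * x = x * r → r = 1 ∨ r = x) : False := by
  haveI : Fact (Nat.Prime 2) := ⟨Nat.prime_two⟩
  have hxp : IsPGroup 2 ↥(Subgroup.zpowers x) := by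
    rw [IsPGroup.iff_card]
    exact ⟨1, by rw [Nat.card_zpowers, hx, pow_one]⟩
  obtain ⟨P, hP⟩ := hxp.exists_le_sylow
  haveI : Nontrivial ↥(P : Subgroup L) := by
    rw [Subgroup.nontrivial_iff_ne_bot]
    intro e
    have := Subgroup.mem_bot.1 (e ▸ hP (Subgroup.mem_zpowers x))
    rw [this, orderOf_one] at hx; omega
  haveI := P.isPGroup'.center_nontrivial
  obtain ⟨c, hc⟩ := exists_ne (1 : ↥(Subgroup.center ↥(P : Subgroup L)))
  have hcx : ((c : ↥(P : Subgroup L)) : L) = x := by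
    rcases hC _ (congrArg Subtype.val
      (Subgroup.mem_center_iff.1 c.2 ⟨x, hP (Subgroup.mem_zpowers x)⟩)).symm with e | e
    · exact absurd (Subtype.ext (Subtype.ext e)) hc
    · exact e
  have hPeq : (P : Subgroup L) = Subgroup.zpowers x := by
    refine le_antisymm (fun r hr => ?_) hP
    have := congrArg Subtype.val (Subgroup.mem_center_iff.1 c.2 ⟨r, hr⟩)
    simp only [Subgroup.coe_mul, hcx] at this
    rcases hC r this with e | e <;> rw [e]
    exacts [Subgroup.one_mem _, Subgroup.mem_zpowers x]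
  have hcyc : IsCyclic ↥(P : Subgroup L) := by rw [hPeq]; infer_instance
  have hmin : (Nat.card L).minFac = 2 := by
    rw [Nat.minFac_eq_two_iff, ← hx]
    exact orderOf_dvd_natCard x
  have hcompl := IsCyclic.isComplement' (P := P) hmin hcyc
  rcases (MonoidHom.transferSylow P (IsCyclic.normalizer_le_centralizer hmin hcyc)).normal_ker.eq_bot_or_eq_top with e | e
  · rw [e] at hcompl
    have := Subgroup.isComplement'_bot_left.1 hcompl
    refine hL ⟨⟨fun a b => ?_⟩⟩
    obtain ⟨m, rfl⟩ := Subgroup.mem_zpowers_iff.1 (hPeq ▸ this ▸ Subgroup.mem_top a : a ∈ Subgroup.zpowers x)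
    obtain ⟨n, rfl⟩ := Subgroup.mem_zpowers_iff.1 (hPeq ▸ this ▸ Subgroup.mem_top b : b ∈ Subgroup.zpowers x)
    exact (Commute.zpow_zpow (Commute.refl x) m n).eq
  · rw [e] at hcompl
    have := Subgroup.isComplement'_top_left.1 hcompl
    have hxm := hP (Subgroup.mem_zpowers x)
    rw [this, Subgroup.mem_bot] at hxm
    rw [hxm, orderOf_one] at hx
    omega

end CfsgLib.LargeExtraspecial
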