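import Mathlib
import Cfsg.Agent.LargeExtraspecial.Structure
import Cfsg.Agent.S5426
import Cfsg.Agent.S5433

/-!
A group in which the normal closure of `z` contains `C(z)`, with a large extraspecial `Q`, is
simple unless `z` is central.
-/

set_option autoImplicit false

namespace CfsgLib.LargeExtraspecial

open Cfsg

variable {G : Type*} [Group G] [Finite G]

theorem setting_of_generalizedFitting {z : G} (hz : orderOf z = 2) {Q : Subgroup G}
    (hQC : Q ≤ Subgroup.centralizer ({z} : Set G))
    (hF : (generalizedFittingSubgroup ↥(Subgroup.centralizer ({z} : Set G))).map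
      (Subgroup.centralizer ({z} : Set G)).subtype = Q) (hQ : IsExtraspecial 2 ↥Q) :
    Setting Q z := by
  set C := Subgroup.centralizer ({z} : Set G) with hC
  have hzC : z ∈ C := Subgroup.mem_centralizer_singleton_iff.2 rfl
  have hzQ : z ∈ Q := by
    rw [← hF]
    refine ⟨⟨z, hzC⟩, Cores.fitting_le_generalizedFitting ?_, rfl⟩
    have h1 : Subgroup.center ↥C ≤ fittingSubgroup ↥C :=
      Cores.le_fittingSubgroup_of_isMulCommutative inferInstance inferInstance
    exact h1 (Subgroup.mem_center_iff.2 fun c => Subtype.ext (Subgroup.mem_centralizer_singleton_iff.1 c.2))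
  have hzZ : z ∈ zOf Q :=
    mem_zOf.2 ⟨hzQ, fun q hq => Subgroup.mem_centralizer_singleton_iff.1 (hQC hq)⟩
  have hz1 : z ≠ 1 := by intro e; rw [e, orderOf_one] at hz; omega
  obtain ⟨w, -, -, hw⟩ := exists_gen hQ
  obtain rfl : z = w := ((hw z).1 hzZ).resolve_left hz1
  refine ⟨hQ, hw, hz, le_antisymm ?_ (zOf_le_centralizer Q), ?_⟩
  · intro c hc
    have hcz : c ∈ C :=
      Subgroup.mem_centralizer_singleton_iff.2 (Subgroup.mem_centralizer_iff.1 hc z hzQ).symm
    have hcen : (⟨c, hcz⟩ : ↥C) ∈ Subgroup.centralizer (generalizedFittingSubgroup ↥C : Set ↥C) := by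
      refine Subgroup.mem_centralizer_iff.2 fun f hf => Subtype.ext ?_
      exact Subgroup.mem_centralizer_iff.1 hc f (hF ▸ ⟨f, hf, rfl⟩)
    have hcQ : c ∈ Q := hF ▸ ⟨_, Cores.centralizer_generalizedFitting_le hcen, rfl⟩
    exact mem_zOf.2 ⟨hcQ, fun q hq => Subgroup.mem_centralizer_iff.1 hc q hq⟩
  · intro c hc q
    have hn : (generalizedFittingSubgroup ↥C).Normal := Cores.generalizedFittingSubgroup_normal
    have key : ∀ a : ↥C, ∀ v ∈ Q, (a : G) * v * (a : G)⁻¹ ∈ Q := by
      intro a v hv
      rw [← hF] at hv ⊢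
      obtain ⟨f, hf, rfl⟩ := hv
      exact ⟨a * f * a⁻¹, hn.conj_mem f hf a, rfl⟩
    refine ⟨key ⟨c, Subgroup.mem_centralizer_singleton_iff.2 hc⟩ q, fun h => ?_⟩
    have := key ⟨c, Subgroup.mem_centralizer_singleton_iff.2 hc⟩⁻¹ _ h
    simpa [mul_assoc] using this

theorem isExtraspecial_of_mulEquiv {A B : Type*} [Group A] [Group B] {p : ℕ} (e : A ≃* B)
    (h : IsExtraspecial p A) : IsExtraspecial p B := by
  obtain ⟨⟨hp, hfr, hder⟩, hcard⟩ := h
  have hc : (Subgroup.center A).map e.toMonoidHom = Subgroup.center B := by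
    ext x
    constructor
    · rintro ⟨y, hy, rfl⟩
      rw [Subgroup.mem_center_iff]
      intro u
      obtain ⟨v, rfl⟩ := e.surjective u
      show e v * e y = e y * e v
      rw [← map_mul, ← map_mul, Subgroup.mem_center_iff.1 hy v]
    · intro hx
      refine ⟨e.symm x, Subgroup.mem_center_iff.2 fun v => e.injective ?_, by simp⟩
      simp only [map_mul, MulEquiv.apply_symm_apply]
      exact Subgroup.mem_center_iff.1 hx (e v)
  have hf : (frattini A).map e.toMonoidHom = frattini B := by
    refine le_antisymm ?_ ?_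
    · rw [Subgroup.map_le_iff_le_comap]
      exact frattini_le_comap_frattini_of_surjective (φ := e.toMonoidHom) e.surjective
    · intro x hx
      have := frattini_le_comap_frattini_of_surjective (φ := e.symm.toMonoidHom) e.symm.surjective hx
      exact ⟨e.symm x, this, by simp⟩
  have hd : (commutator A).map e.toMonoidHom = commutator B := by
    rw [commutator_def, Subgroup.map_commutator, Subgroup.map_top_of_surjective _ e.surjective,
      ← commutator_def]
  refine ⟨⟨hp.of_equiv e, ?_, ?_⟩, ?_⟩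
  · rw [← hf, hfr, hc]
  · rw [← hd, hder, hc]
  · rw [← hc, ← hcard]
    exact Nat.card_congr ((Subgroup.center A).equivMapOfInjective _ e.injective).toEquiv.symm

/-- The simplicity criterion. -/
theorem isSimpleGroup_of_centralizer_le {Q : Subgroup G} {z : G} (hQ : IsLargeExtraspecial Q)
    (h : Setting Q z) (hle : Subgroup.centralizer ({z} : Set G) ≤ Subgroup.normalClosure ({z} : Set G))
    (hnc : ∃ g : G, g * z * g⁻¹ ≠ z) : IsSimpleGroup G := by
  set M := Subgroup.normalClosure ({z} : Set G) with hM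
  have hz : zOf Q = Subgroup.zpowers z := zOf_eq_zpowers h.z_mem_zOf h.mem_iff
  have hQM : Q ≤ M := fun q hq => hle (Subgroup.mem_centralizer_singleton_iff.2 (h.comm hq))
  rcases Cfsg.Agent.S5426.result Q hQ z hz M rfl with hn | ⟨hab, -⟩ | ⟨-, hs, -⟩ | ⟨-, L, u, huQ, hLs, -, hinf, hcomm, hsup, -⟩
  · exfalso
    obtain ⟨g, hg⟩ := hnc
    have : g * z * g⁻¹ ∈ zOf Q := by
      haveI := hn
      exact (inferInstance : (zOf Q).Normal).conj_mem z h.z_mem_zOf g
    rcases (h.mem_iff _).1 this with e | e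
    · exact h.z_ne_one (conj_eq_one_iff.1 e)
    · exact hg e
  · exfalso
    have hcomm : ∀ a ∈ Q, ∀ b ∈ Q, a * b = b * a := fun a ha b hb =>
      congrArg Subtype.val (hab.is_comm.comm (⟨a, hQM ha⟩ : ↥M) ⟨b, hQM hb⟩)
    have hctop : Subgroup.center ↥Q = ⊤ := eq_top_iff.2 fun a _ =>
      Subgroup.mem_center_iff.2 fun b => Subtype.ext (hcomm _ b.2 _ a.2)
    have hbot : commutator ↥Q = ⊥ := by
      rw [commutator_def, Subgroup.commutator_eq_bot_iff_le_centralizer]
      exact fun a _ => Subgroup.mem_centralizer_iff.2 fun b _ => Subtype.ext (hcomm _ b.2 _ a.2)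
    have := h.extraspecial.2
    rw [← h.extraspecial.1.2.2, hbot, Subgroup.card_bot] at this
    omega
  · -- `M` is simple and everything
    haveI : M.Normal := Subgroup.normalClosure_normal
    have htop : M = ⊤ := by
      have := Cfsg.Agent.S5433.result Q hQ M hQM
      rw [eq_top_iff, ← this]
      refine sup_le le_rfl ((fun g hg => hle ?_))
      rw [Subgroup.mem_centralizer_singleton_iff]
      have hn := Subgroup.mem_normalizer_iff.1 hg
      have hmem : g * z * g⁻¹ ∈ zOf Q := by
        refine mem_zOf.2 ⟨(hn z).1 h.z_mem, fun q hq => ?_⟩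
        have hq' : g⁻¹ * q * g ∈ Q := (hn _).2 (by simpa [mul_assoc] using hq)
        calc q * (g * z * g⁻¹) = g * ((g⁻¹ * q * g) * z) * g⁻¹ := by group
          _ = g * z * g⁻¹ * q := by rw [h.comm hq']; group
      rcases (h.mem_iff _).1 hmem with e | e
      · exact absurd (conj_eq_one_iff.1 e) h.z_ne_one
      · exact mul_inv_eq_iff_eq_mul.1 e
    haveI := hs
    haveI : Nontrivial G := ⟨⟨z, 1, h.z_ne_one⟩⟩
    exact IsSimpleGroup.isSimpleGroup_of_surjective M.subtype fun g => ⟨⟨g, htop ▸ Subgroup.mem_top g⟩, rfl⟩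
  · exfalso
    haveI := hLs
    obtain ⟨a, b, hab⟩ := exists_pair_ne ↥L
    have hnorm : ∀ m ∈ M, ∀ l ∈ L, m * l * m⁻¹ ∈ L := by
      have : M ≤ Subgroup.normalizer (L : Set G) := by
        rw [← hsup]
        refine sup_le Subgroup.le_normalizer (Subgroup.le_normalizer_iff.2 fun m hm l hl => ?_)
        rw [← hcomm l hl m hm, mul_inv_cancel_right]
        exact hl
      exact fun m hm l hl => (Subgroup.mem_normalizer_iff.1 (this hm) l).1 hl
    have hLbot : L = ⊥ := by
      rw [eq_bot_iff, ← hinf]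
      intro l hl
      refine ⟨hl, u⁻¹ * l * u, ?_, by simp [mul_assoc]⟩
      simpa using hnorm u⁻¹ (M.inv_mem (hQM huQ)) l hl
    subst hLbot
    exact hab (Subsingleton.elim a b)

end CfsgLib.LargeExtraspecial
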