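import Mathlib
import Cfsg.Agent.LargeExtraspecial.Pair

/-!
Tools for showing that the image of a subgroup of `Q` in a section is large extraspecial.
-/

set_option autoImplicit false

namespace CfsgLib.LargeExtraspecial

open Cfsg
open scoped commutatorElement

variable {L : Type*} [Group L]

/-- A nonabelian 2-group with centre of order two containing all squares is extraspecial. -/
theorem isExtraspecial_two_of [Finite L] {P : Subgroup L} (hp : IsPGroup 2 ↥P) {z : L}
    (hz1 : z ≠ 1) (hcen : ∀ x, x ∈ zOf P ↔ x = 1 ∨ x = z) (hsq : ∀ a ∈ P, a * a ∈ zOf P)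
    (hna : ∃ a ∈ P, ∃ b ∈ P, a * b ≠ b * a) : IsExtraspecial 2 ↥P := by
  haveI : Fact (Nat.Prime 2) := ⟨Nat.prime_two⟩
  have hcen' : ∀ x : ↥P, (x : L) ∈ zOf P → x ∈ Subgroup.center ↥P := by
    rintro x ⟨y, hy, hyx⟩
    exact (Subtype.ext hyx : y = x) ▸ hy
  have hsq' : ∀ a : ↥P, a * a ∈ Subgroup.center ↥P := fun a => hcen' _ (hsq a a.2)
  have hcm : ∀ a b : ↥P, ⁅a, b⁆ ∈ Subgroup.center ↥P := by
    intro a b
    rw [show ⁅a, b⁆ = (a * a) * ((a⁻¹ * b) * (a⁻¹ * b)) * (b⁻¹ * b⁻¹) by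
      rw [commutatorElement_def]; group]
    exact Subgroup.mul_mem _ (Subgroup.mul_mem _ (hsq' _) (hsq' _)) (hsq' _)
  have hcard : Nat.card ↥(Subgroup.center ↥P) = 2 := by
    have h1 : ((zOf P : Subgroup L) : Set L) = {1, z} := Set.ext fun x => by simpa using hcen x
    calc Nat.card ↥(Subgroup.center ↥P) = Nat.card ↥(zOf P) :=
          Nat.card_congr (Subgroup.equivMapOfInjective _ P.subtype P.subtype_injective).toEquiv
      _ = ((zOf P : Subgroup L) : Set L).ncard := rfl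
      _ = 2 := by rw [h1, Set.ncard_pair hz1.symm]
  obtain ⟨a, ha, b, hb, hab⟩ := hna
  have hcomm : commutator ↥P = Subgroup.center ↥P := by
    refine le_antisymm ?_ ?_
    · rw [commutator_def, Subgroup.commutator_le]
      exact fun x _ y _ => hcm x y
    · intro x hx
      rcases (hcen x).1 ⟨x, hx, rfl⟩ with e | e
      · rw [show x = 1 from Subtype.ext e]; exact Subgroup.one_mem _
      · have hc := Subgroup.commutator_mem_commutator (Subgroup.mem_top (⟨a, ha⟩ : ↥P))
          (Subgroup.mem_top (⟨b, hb⟩ : ↥P))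
        rw [← commutator_def] at hc
        rcases (hcen _).1 ⟨_, hcm ⟨a, ha⟩ ⟨b, hb⟩, rfl⟩ with e' | e'
        · exfalso
          apply hab
          have e'' : (⁅(⟨a, ha⟩ : ↥P), ⟨b, hb⟩⁆ : ↥P) = 1 := Subtype.ext e'
          exact congrArg Subtype.val (commutatorElement_eq_one_iff_mul_comm.1 e'')
        · rw [show x = ⁅(⟨a, ha⟩ : ↥P), ⟨b, hb⟩⁆ from Subtype.ext (e.trans e'.symm)]
          exact hc
  refine ⟨⟨hp, le_antisymm ?_ ?_, hcomm⟩, hcard⟩
  · have := CharP.frattini_le_ker_of_elementary (p := 2) (QuotientGroup.mk' (Subgroup.center ↥P))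
      (fun x y => by
        show _ * _ = _ * _
        rw [← map_mul, ← map_mul, QuotientGroup.mk'_apply, QuotientGroup.mk'_apply, QuotientGroup.eq]
        have := hcm y⁻¹ x⁻¹
        rw [commutatorElement_def] at this
        simpa [mul_assoc] using this)
      (fun x => by
        rw [← map_pow, QuotientGroup.mk'_apply, QuotientGroup.eq_one_iff, pow_two]
        exact hsq' x)
    rwa [QuotientGroup.ker_mk'] at this
  · rw [← hcomm, commutator_def, Subgroup.commutator_le]
    intro x _ y _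
    rw [show ⁅x, y⁆ = (x * x) * ((x⁻¹ * y) * (x⁻¹ * y)) * (y⁻¹ * y⁻¹) by
      rw [commutatorElement_def]; group]
    exact Subgroup.mul_mem _ (Subgroup.mul_mem _ (sq_mem_frattini hp _) (sq_mem_frattini hp _))
      (sq_mem_frattini hp _)

/-- A normal 2-subgroup of `C` lies in its 2-core. -/
theorem le_map_pCore {C N : Subgroup L} (hNC : N ≤ C)
    (hn : ∀ c ∈ C, ∀ n ∈ N, c * n * c⁻¹ ∈ N) (hp : IsPGroup 2 ↥N) :
    N ≤ (pCore 2 ↥C).map C.subtype := by
  intro x hx
  have h : N.subgroupOf C ∈ {M : Subgroup ↥C | M.Normal ∧ IsPGroup 2 ↥M} :=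
    ⟨⟨fun n hn' c => hn c c.2 n hn'⟩, hp.comap_subtype⟩
  exact ⟨⟨x, hNC hx⟩, le_sSup h hx, rfl⟩

/-- Two elementary moves compose to a swap. -/
theorem swap_conj {z s q u : L} (hss : s * s = 1) (hzs : z * s = s * z)
    (hqs : q * s * q⁻¹ = z * s) (hus : u * s * u⁻¹ = s)
    (huz : u * z * u⁻¹ = s * z) : (u * q * u) * s * (u * q * u)⁻¹ = z := by
  calc (u * q * u) * s * (u * q * u)⁻¹ = u * (q * (u * s * u⁻¹) * q⁻¹) * u⁻¹ := by group
    _ = u * (z * s) * u⁻¹ := by rw [hus, hqs]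
    _ = (u * z * u⁻¹) * (u * s * u⁻¹) := by group
    _ = z := by rw [huz, hus, ← hzs, mul_assoc, hss, mul_one]

end CfsgLib.LargeExtraspecial
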