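import Mathlib

/-!
Splitting off a nonzero vector, and transitivity of the general linear group on nonzero vectors.
-/

set_option autoImplicit false

namespace CfsgLib.LargeExtraspecial

open Module
open scoped Matrix

variable {F V : Type*} [Field F] [AddCommGroup V] [Module F V]

theorem exists_split [FiniteDimensional F V] {z : V} (hz : z ≠ 0) {n : ℕ}
    (hn : finrank F V = n + 1) : ∃ e : V ≃ₗ[F] F × (Fin n → F), e z = (1, 0) := by
  set b := Module.finBasis F V
  obtain ⟨i, hi⟩ : ∃ i, b.repr z i ≠ 0 := by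
    by_contra h
    push Not at h
    exact hz (b.repr.map_eq_zero_iff.1 (Finsupp.ext h))
  let f : V →ₗ[F] F := (b.repr z i)⁻¹ • b.coord i
  have hfz : f z = 1 := by simp [f, hi]
  have hsurj : LinearMap.range f = ⊤ := LinearMap.range_eq_top.2 fun c => ⟨c • z, by simp [hfz]⟩
  have hker : finrank F (LinearMap.ker f) = n := by
    have := f.finrank_range_add_finrank_ker
    rw [hsurj, finrank_top, finrank_self, hn] at this
    omega
  let g : LinearMap.ker f ≃ₗ[F] (Fin n → F) :=
    LinearEquiv.ofFinrankEq _ _ (by rw [hker, finrank_fintype_fun_eq_card, Fintype.card_fin])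
  let pr : V →ₗ[F] LinearMap.ker f :=
    LinearMap.codRestrict _ (LinearMap.id - f.smulRight z) fun v => by simp [hfz]
  have hpr : ∀ v, (pr v : V) = v - f v • z := fun v => rfl
  let e : V →ₗ[F] F × (Fin n → F) := f.prod (g.toLinearMap.comp pr)
  have hbij : Function.Bijective e := by
    constructor
    · rw [← LinearMap.ker_eq_bot, LinearMap.ker_eq_bot']
      intro v hv
      have h1 : f v = 0 := congrArg Prod.fst hv
      have h2 : g (pr v) = 0 := congrArg Prod.snd hv
      rw [g.map_eq_zero_iff] at h2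
      simpa [hpr, h1] using congrArg Subtype.val h2
    · rintro ⟨s, x⟩
      have hk : f (g.symm x : V) = 0 := (g.symm x).2
      refine ⟨s • z + (g.symm x : V), Prod.ext ?_ ?_⟩
      · simp [e, hfz, hk]
      · show g (pr (s • z + (g.symm x : V))) = x
        rw [show pr (s • z + (g.symm x : V)) = g.symm x from Subtype.ext (by simp [hpr, hfz, hk]),
          g.apply_symm_apply]
  refine ⟨LinearEquiv.ofBijective e hbij, Prod.ext ?_ ?_⟩
  · simp [e, hfz]
  · show g (pr z) = 0
    rw [g.map_eq_zero_iff]
    exact Subtype.ext (by simp [hpr, hfz])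

/-- The general linear group is transitive on nonzero vectors. -/
theorem exists_gl_mulVec_eq {n : ℕ} {x y : Fin n → F} (hx : x ≠ 0) (hy : y ≠ 0) :
    ∃ A : Matrix.GeneralLinearGroup (Fin n) F, (A : Matrix (Fin n) (Fin n) F) *ᵥ x = y := by
  obtain ⟨k, rfl⟩ : ∃ k, n = k + 1 := by
    rcases n with _ | k
    · exact absurd (funext fun i => i.elim0) hx
    · exact ⟨k, rfl⟩
  have hn : finrank F (Fin (k + 1) → F) = k + 1 := by simp
  obtain ⟨e₁, h₁⟩ := exists_split hx hn
  obtain ⟨e₂, h₂⟩ := exists_split hy hn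
  let e := e₁.trans e₂.symm
  refine ⟨⟨LinearMap.toMatrix' e.toLinearMap, LinearMap.toMatrix' e.symm.toLinearMap,
    by rw [← LinearMap.toMatrix'_comp]; simp, by rw [← LinearMap.toMatrix'_comp]; simp⟩, ?_⟩
  rw [← Matrix.toLin'_apply, Matrix.toLin'_toMatrix']
  show e₂.symm (e₁ x) = y
  rw [h₁, ← h₂, e₂.symm_apply_apply]

end CfsgLib.LargeExtraspecial
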