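import Mathlib
import Cfsg.Agent.LargeExtraspecial.Basic

/-!
A normal 2-subgroup of a group acting transitively on the nonzero vectors of a space acts trivially.
-/

set_option autoImplicit false

namespace CfsgLib.LargeExtraspecial

theorem acts_trivially {L W : Type*} [Group L] [AddCommGroup W] [Finite W] (hW : 2 ∣ Nat.card W)
    {C P : Subgroup L} (hPC : P ≤ C) (hP : IsPGroup 2 ↥P)
    (hn : ∀ c ∈ C, ∀ a ∈ P, c⁻¹ * a * c ∈ P)
    (f : L → W → W) (h1 : ∀ w, f 1 w = w)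
    (hmul : ∀ a ∈ C, ∀ b ∈ C, ∀ w, f (a * b) w = f a (f b w))
    (h0 : ∀ a ∈ P, f a 0 = 0)
    (htr : ∀ x y : W, x ≠ 0 → y ≠ 0 → ∃ c ∈ C, f c x = y) :
    ∀ a ∈ P, ∀ w, f a w = w := by
  haveI : Fact (Nat.Prime 2) := ⟨Nat.prime_two⟩
  let act : MulAction ↥P W :=
    { smul := fun a w => f a w
      one_smul := h1
      mul_smul := fun a b w => hmul a (hPC a.2) b (hPC b.2) w }
  letI := act
  obtain ⟨x, hx, hx0⟩ := hP.exists_fixed_point_of_prime_dvd_card_of_fixed_point W hW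
    (a := (0 : W)) (fun a => h0 a a.2)
  have hfx : ∀ a ∈ P, f a x = x := fun a ha => hx ⟨a, ha⟩
  intro a ha w
  by_cases hw : w = 0
  · rw [hw]; exact h0 a ha
  · obtain ⟨c, hc, rfl⟩ := htr x w hx0.symm hw
    have ha' := hn c hc a ha
    calc f a (f c x) = f (a * c) x := (hmul a (hPC ha) c hc x).symm
      _ = f (c * (c⁻¹ * a * c)) x := by rw [← mul_assoc, ← mul_assoc, mul_inv_cancel, one_mul]
      _ = f c (f (c⁻¹ * a * c) x) := hmul c hc _ (hPC ha') x
      _ = f c x := by rw [hfx _ ha']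

open Cfsg in
/-- The 2-core of a subgroup is normalized by it. -/
theorem conj_mem_map_pCore {L : Type*} [Group L] (C : Subgroup L) {c : L} (hc : c ∈ C) {a : L}
    (ha : a ∈ (pCore 2 ↥C).map C.subtype) : c⁻¹ * a * c ∈ (pCore 2 ↥C).map C.subtype := by
  obtain ⟨y, hy, rfl⟩ := ha
  exact ⟨⟨c, hc⟩⁻¹ * y * ⟨c, hc⟩, (pCore_normal 2 _).conj_mem' y hy _, rfl⟩

end CfsgLib.LargeExtraspecial
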