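import Mathlib
import Cfsg.Agent.LargeExtraspecial.Section
import Cfsg.Agent.LargeExtraspecial.Split
import Cfsg.Agent.LargeExtraspecial.TwoAction

/-!
The centralizer of a transvection in the special linear group over the field with two elements.
-/

set_option autoImplicit false

namespace CfsgLib.LargeExtraspecial.Transvection

open scoped Matrix

/-- The group. -/
abbrev SL2F (m : ℕ) := Matrix.SpecialLinearGroup (Fin m) (ZMod 2)

/-- Parameters of the unipotent radical. -/
abbrev Par (n : ℕ) := ZMod 2 × (Fin n → ZMod 2) × (Fin n → ZMod 2)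

theorem two_cases : ∀ a : ZMod 2, a = 0 ∨ a = 1 := by decide

variable {n : ℕ}

/-- Shifted index. -/
abbrev sh (i : Fin n) : Fin (n + 2) := i.succ.succ

theorem forall_index {motive : Fin (n + 2) → Prop} (h0 : motive 0) (h1 : motive 1)
    (hs : ∀ i, motive (sh i)) (i : Fin (n + 2)) : motive i :=
  Fin.cases h0 (fun j => Fin.cases (motive := fun j => motive j.succ) h1 hs j) i

theorem sum_index (f : Fin (n + 2) → ZMod 2) : ∑ i, f i = f 0 + (f 1 + ∑ i, f (sh i)) := by
  rw [Fin.sum_univ_succ, Fin.sum_univ_succ, Fin.succ_zero_eq_one]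

@[simp] theorem cons_at_one {β : Type*} (a b : β) (f : Fin n → β) :
    (Fin.cons a (Fin.cons b f) : Fin (n + 2) → β) 1 = b := rfl

@[simp] theorem sh_ne_one (i : Fin n) : sh i ≠ 1 := fun e =>
  Fin.succ_ne_zero _ (Fin.succ_injective _ (e.trans Fin.succ_zero_eq_one.symm))

@[simp] theorem one_ne_sh (i : Fin n) : (1 : Fin (n + 2)) ≠ sh i := (sh_ne_one i).symm

theorem det_eq_one_of_mul {m : ℕ} {X Y : Matrix (Fin m) (Fin m) (ZMod 2)} (h : X * Y = 1) :
    X.det = 1 := by
  have h' := congrArg Matrix.det h
  rw [Matrix.det_mul, Matrix.det_one] at h'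
  rcases two_cases X.det with e | e
  · rw [e, zero_mul] at h'; exact absurd h' zero_ne_one
  · exact e

/-- The block. -/
def blk (g : SL2F (n + 2)) : Matrix (Fin n) (Fin n) (ZMod 2) :=
  Matrix.of fun i j => (g : Matrix (Fin (n + 2)) (Fin (n + 2)) (ZMod 2)) (sh i) (sh j)

/-- The shape of the elements centralizing the transvection. -/
structure Shape (g : SL2F (n + 2)) : Prop where
  col : ∀ i, i ≠ 0 → (g : Matrix (Fin (n + 2)) (Fin (n + 2)) (ZMod 2)) i 0 = 0
  row : ∀ j, j ≠ 1 → (g : Matrix (Fin (n + 2)) (Fin (n + 2)) (ZMod 2)) 1 j = 0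
  c00 : (g : Matrix (Fin (n + 2)) (Fin (n + 2)) (ZMod 2)) 0 0 = 1
  c11 : (g : Matrix (Fin (n + 2)) (Fin (n + 2)) (ZMod 2)) 1 1 = 1

theorem shape_of_comm {g z : SL2F (n + 2)}
    (hz : (z : Matrix (Fin (n + 2)) (Fin (n + 2)) (ZMod 2)) = Matrix.transvection 0 1 1)
    (h : g * z = z * g) : Shape g := by
  have e := congrArg (fun x : SL2F (n + 2) => (x : Matrix (Fin (n + 2)) (Fin (n + 2)) (ZMod 2))) h
  simp only [Matrix.SpecialLinearGroup.coe_mul, hz] at e
  set M := (g : Matrix (Fin (n + 2)) (Fin (n + 2)) (ZMod 2))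
  have hc : ∀ i, i ≠ 0 → M i 0 = 0 := by
    intro i hi
    have h' := congrFun (congrFun e i) 1
    rw [Matrix.mul_transvection_apply_same, Matrix.transvection_mul_apply_of_ne _ _ _ _ hi] at h'
    simpa using h'
  have hr : ∀ j, j ≠ 1 → M 1 j = 0 := by
    intro j hj
    have h' := congrFun (congrFun e 0) j
    rw [Matrix.mul_transvection_apply_of_ne _ _ _ _ hj, Matrix.transvection_mul_apply_same] at h'
    simpa using h'
  have hd : M 0 0 = M 1 1 := by
    have h' := congrFun (congrFun e 0) 1
    rw [Matrix.mul_transvection_apply_same, Matrix.transvection_mul_apply_same] at h'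
    simpa using h'
  have h00 : M 0 0 = 1 := by
    rcases two_cases (M 0 0) with e0 | e0
    · exfalso
      have : M.det = 0 := Matrix.det_eq_zero_of_column_eq_zero 0 fun i => by
        by_cases hi : i = 0
        · rw [hi, e0]
        · exact hc i hi
      exact zero_ne_one (this.symm.trans g.2)
    · exact e0
  exact ⟨hc, hr, h00, hd.symm.trans h00⟩

theorem comm_of_shape {g z : SL2F (n + 2)}
    (hz : (z : Matrix (Fin (n + 2)) (Fin (n + 2)) (ZMod 2)) = Matrix.transvection 0 1 1)
    (h : Shape g) : g * z = z * g := by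
  apply Subtype.ext
  simp only [Matrix.SpecialLinearGroup.coe_mul, hz]
  ext i j
  by_cases hi : i = 0 <;> by_cases hj : j = 1
  · subst hi hj
    rw [Matrix.mul_transvection_apply_same, Matrix.transvection_mul_apply_same, h.c00, h.c11]
  · subst hi
    rw [Matrix.mul_transvection_apply_of_ne _ _ _ _ hj, Matrix.transvection_mul_apply_same,
      h.row j hj, mul_zero, add_zero]
  · subst hj
    rw [Matrix.mul_transvection_apply_same, Matrix.transvection_mul_apply_of_ne _ _ _ _ hi,
      h.col i hi, mul_zero, add_zero]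
  · rw [Matrix.mul_transvection_apply_of_ne _ _ _ _ hj, Matrix.transvection_mul_apply_of_ne _ _ _ _ hi]

theorem blk_mul {g h : SL2F (n + 2)} (hg : Shape g) (hh : Shape h) :
    blk (g * h) = blk g * blk h := by
  ext i j
  show (g * h : SL2F (n + 2)).1 (sh i) (sh j) = _
  rw [Matrix.SpecialLinearGroup.coe_mul, Matrix.mul_apply, Matrix.mul_apply, sum_index,
    hg.col _ (Fin.succ_ne_zero _), hh.row (sh j) (sh_ne_one j)]
  simp [blk]

theorem blk_one : blk (1 : SL2F (n + 2)) = 1 := by
  ext i j
  simp [blk, Matrix.one_apply, Fin.succ_inj]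

/-- The Levi matrix. -/
def leviMat (A : Matrix (Fin n) (Fin n) (ZMod 2)) : Matrix (Fin (n + 2)) (Fin (n + 2)) (ZMod 2) :=
  Matrix.of (Fin.cons (Fin.cons 1 (Fin.cons 0 0))
    (Fin.cons (Fin.cons 0 (Fin.cons 1 0)) fun i => Fin.cons 0 (Fin.cons 0 (A i))))

theorem leviMat_mul (A B : Matrix (Fin n) (Fin n) (ZMod 2)) :
    leviMat A * leviMat B = leviMat (A * B) := by
  ext i j
  induction i using forall_index <;> induction j using forall_index <;>
    simp [Matrix.mul_apply, sum_index, leviMat]

theorem leviMat_one : leviMat (1 : Matrix (Fin n) (Fin n) (ZMod 2)) = 1 := by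
  ext i j
  induction i using forall_index <;> induction j using forall_index <;>
    simp [Matrix.one_apply, leviMat, eq_comm, Fin.succ_ne_zero]

/-- The Levi embedding. -/
noncomputable def levi : SL2F n →* SL2F (n + 2) :=
  MonoidHom.mk' (fun A => ⟨leviMat A.1, det_eq_one_of_mul (Y := leviMat (A⁻¹).1) (by
      rw [leviMat_mul, ← Matrix.SpecialLinearGroup.coe_mul, mul_inv_cancel,
        Matrix.SpecialLinearGroup.coe_one, leviMat_one])⟩)
    fun A B => Subtype.ext (leviMat_mul A.1 B.1).symm

theorem blk_levi (A : SL2F n) : blk (levi A) = A.1 := by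
  ext i j; rfl

theorem shape_levi (A : SL2F n) : Shape (levi A) := by
  refine ⟨fun i => ?_, fun j => ?_, rfl, rfl⟩
  · induction i using forall_index <;> intro h <;> first | exact absurd rfl h | rfl
  · induction j using forall_index <;> intro h <;> first | exact absurd rfl h | rfl

/-- The unipotent matrix. -/
def uniMat (x : Par n) : Matrix (Fin (n + 2)) (Fin (n + 2)) (ZMod 2) :=
  Matrix.of (Fin.cons (Fin.cons 1 (Fin.cons x.1 x.2.1))
    (Fin.cons (Fin.cons 0 (Fin.cons 1 0))
      fun i => Fin.cons 0 (Fin.cons (x.2.2 i) ((1 : Matrix (Fin n) (Fin n) (ZMod 2)) i))))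

/-- The law on parameters. -/
def law (x y : Par n) : Par n := (x.1 + y.1 + x.2.1 ⬝ᵥ y.2.2, x.2.1 + y.2.1, x.2.2 + y.2.2)

theorem uniMat_mul (x y : Par n) : uniMat x * uniMat y = uniMat (law x y) := by
  ext i j
  induction i using forall_index <;> induction j using forall_index <;>
    simp [Matrix.mul_apply, sum_index, uniMat, law, dotProduct, Matrix.one_apply,
      add_comm, add_left_comm, add_assoc]

theorem uniMat_zero : uniMat (0 : Par n) = 1 := by
  ext i j
  induction i using forall_index <;> induction j using forall_index <;>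
    simp [Matrix.one_apply, uniMat, eq_comm, Fin.succ_ne_zero]

/-- The unipotent element. -/
noncomputable def uni (x : Par n) : SL2F (n + 2) :=
  ⟨uniMat x, det_eq_one_of_mul (Y := uniMat (x.1 + x.2.1 ⬝ᵥ x.2.2, x.2.1, x.2.2)) (by
    rw [uniMat_mul, ← uniMat_zero]
    congr 1
    refine Prod.ext ?_ (Prod.ext (funext fun i => CharTwo.add_self_eq_zero _)
      (funext fun i => CharTwo.add_self_eq_zero _))
    show x.1 + (x.1 + x.2.1 ⬝ᵥ x.2.2) + x.2.1 ⬝ᵥ x.2.2 = 0
    rw [← add_assoc, CharTwo.add_self_eq_zero, zero_add, CharTwo.add_self_eq_zero])⟩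

theorem uni_mul (x y : Par n) : uni x * uni y = uni (law x y) := Subtype.ext (uniMat_mul x y)

theorem uni_zero : uni (0 : Par n) = 1 := Subtype.ext uniMat_zero

theorem uni_injective : Function.Injective (uni : Par n → SL2F (n + 2)) := by
  intro x y h
  have h' : uniMat x = uniMat y := congrArg Subtype.val h
  refine Prod.ext ?_ (Prod.ext ?_ ?_)
  · exact congrFun (congrFun h' 0) 1
  · funext j; exact congrFun (congrFun h' 0) (sh j)
  · funext i; exact congrFun (congrFun h' (sh i)) 1

theorem shape_uni (x : Par n) : Shape (uni x) := by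
  refine ⟨fun i => ?_, fun j => ?_, rfl, rfl⟩
  · induction i using forall_index <;> intro h <;> first | exact absurd rfl h | rfl
  · induction j using forall_index <;> intro h <;> first | exact absurd rfl h | rfl

theorem blk_uni (x : Par n) : blk (uni x) = 1 := by
  ext i j; rfl

theorem eq_uni {g : SL2F (n + 2)} (hg : Shape g) (h1 : blk g = 1) :
    g = uni (g.1 0 1, fun j => g.1 0 (sh j), fun i => g.1 (sh i) 1) := by
  apply Subtype.ext
  ext i j
  induction i using forall_index <;> induction j using forall_index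
  case h0.h0 => exact hg.c00
  case h1.h1 => exact hg.c11
  case h1.h0 => exact hg.col _ (by simp)
  case h1.hs j => exact hg.row _ (sh_ne_one j)
  case hs.h0 i => exact hg.col _ (Fin.succ_ne_zero _)
  case hs.hs i j => exact congrFun (congrFun h1 i) j
  all_goals rfl

theorem transvection_eq_uniMat :
    Matrix.transvection (0 : Fin (n + 2)) 1 (1 : ZMod 2) = uniMat (1, 0, 0) := by
  ext i j
  induction i using forall_index <;> induction j using forall_index <;>
    simp [Matrix.transvection, uniMat, Matrix.one_apply, Matrix.single_apply, eq_comm, Fin.succ_ne_zero]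

end CfsgLib.LargeExtraspecial.Transvection
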